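import Cfsg.Agent.H576.HT.Omega
import Cfsg.Agent.H337.HT.NumP
import Cfsg.Agent.H530.HT.PSpPNum_m3
import Cfsg.Agent.H392.HT.SixL34_m3
import Cfsg.Agent.H742.HT.L213_m3
import Cfsg.Agent.H50.HerFam
import Cfsg.Agent.Prune
set_option linter.all false

section
prune_inst 0x7ffefdffeffb3fffffff7e7ff7d8cffc3bd4dffff6dff94bffecebffbbffa30a29e5fbad8de0f8fe1ef6e23418b87853fbfffeffe36ffc7ffffdfff45ffbee5ff7ffbf2d51d7ad34dffe6fff9bf0778e7f3fffffffffffffffffffffffffffbeffbffffffffd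

-- part: H576/HT/OmegaP
section
prune_inst 0x102001004c0000000000008233002000300000900020000121000040010941208040210000001010104cb20010000000000000c00000000000003000000200000008020001240000000006001084000000000000000000000000000000000004000000002
set_option linter.all false
open scoped Cfsg.Agent.FastGrp

/-!
# S3512: orthogonal groups `PΩ_{2m+1}(s)`, `PΩ⁺_{2m}(s)` have no candidate in degree `n ≥ 13`, `p ∣ |T|`, `p ≠ r`
-/

set_option autoImplicit false

universe u v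

open Cfsg Cfsg.Agent.H915.LD Cfsg.Agent.H337.HT

namespace Cfsg.Agent.H576.HT

/-! ### Numbers -/

theorem sq_le_two {s : ℕ} (h : 4 ≤ s) : s ^ 2 ≤ 2 ^ s := by
  induction s, h using Nat.le_induction with
  | base => norm_num
  | succ s hs ih =>
    have h1 : 2 ^ (s + 1) = 2 * 2 ^ s := by ring
    rw [h1]
    nlinarith

theorem sq_le_two' {s : ℕ} (h : 3 ≤ s) : s ^ 2 ≤ 2 ^ (s + 1) := by
  rcases (show s = 3 ∨ 4 ≤ s by omega) with rfl | h4
  · norm_num
  · exact (sq_le_two h4).trans (Nat.pow_le_pow_right (by norm_num) (by omega))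

theorem pow_le_A {s e N : ℕ} (h : 4 ≤ s) (hN : s * e ≤ N) : s ^ (2 * e) ≤ 2 ^ N := by
  rw [pow_mul]
  calc (s ^ 2) ^ e ≤ (2 ^ s) ^ e := Nat.pow_le_pow_left (sq_le_two h) e
    _ = 2 ^ (s * e) := (pow_mul _ _ _).symm
    _ ≤ 2 ^ N := Nat.pow_le_pow_right (by norm_num) hN

theorem pow_le_B {s e N : ℕ} (h : 3 ≤ s) (hN : (s + 1) * e ≤ N) : s ^ (2 * e) ≤ 2 ^ N := by
  rw [pow_mul]
  calc (s ^ 2) ^ e ≤ (2 ^ (s + 1)) ^ e := Nat.pow_le_pow_left (sq_le_two' h) e
    _ = 2 ^ ((s + 1) * e) := (pow_mul _ _ _).symm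
    _ ≤ 2 ^ N := Nat.pow_le_pow_right (by norm_num) hN

theorem pow_le_C {k N : ℕ} (hN : 2 * k ≤ 3 * N) : 2 ^ k ≤ 3 ^ N := by
  have h1 : (2 ^ k) ^ 3 ≤ (3 ^ N) ^ 3 := by
    calc (2 ^ k) ^ 3 = (2 ^ 3) ^ k := by rw [← pow_mul, ← pow_mul, mul_comm]
      _ ≤ (3 ^ 2) ^ k := Nat.pow_le_pow_left (by norm_num) k
      _ = 3 ^ (2 * k) := (pow_mul _ _ _).symm
      _ ≤ 3 ^ (3 * N) := Nat.pow_le_pow_right (by norm_num) hN
      _ = (3 ^ N) ^ 3 := by rw [← pow_mul, mul_comm]
  exact (Nat.pow_le_pow_iff_left (by norm_num)).1 h1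

/-! ### `PΩ_{2m+1}(s)` -/

section odd

variable {K : Type} [Field K] [Fintype K] {m : ℕ}

theorem deadP_odd_size {n p : ℕ} (hp : p.Prime) (hm : 3 ≤ m) (ho : Odd (Fintype.card K)) (hn : 2 ≤ n)
    (h : 2 * Fintype.card K ^ (2 * (2 * m ^ 2 + m + 1)) ≤ 2 ^ (n - 2)) :
    DeadP p n (Cfsg.POmega K (Cfsg.quadFormOdd m K)) := by
  refine deadP_of_pow (b := 2) (A := Fintype.card K ^ (2 * m ^ 2 + m + 1)) hp hn hp.two_le (aut_odd hm ho)
    Nat.card_pos ?_
  rw [← pow_mul, mul_comm (2 * m ^ 2 + m + 1) 2]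
  exact h

theorem sieve_oddP {n p m s o A n₀ : ℕ} (hs : Fintype.card K = s) (ho : Odd s) (hm : 3 ≤ m)
    (hc : 2 * o = s ^ (m ^ 2) * ∏ i ∈ Finset.range m, (s ^ (2 * (i + 1)) - 1))
    (r f : ℕ) (hr : r.Prime) (hf : 1 ≤ f) (hK : s = r ^ f) (hA : 2 * f * o = A) (ps : List ℕ)
    (hps : ∀ t ∈ r :: ps, t.Prime) (h : chkP r ps o A n₀ = true) (hp : p.Prime)
    (hd : p ∣ Nat.card (Cfsg.POmega K (Cfsg.quadFormOdd m K))) (hpr : p ≠ r) (hn : n₀ ≤ n) :
    DeadP p n (Cfsg.POmega K (Cfsg.quadFormOdd m K)) := by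
  have := Fact.mk hr
  have hro : Odd r := by
    rw [hK] at ho
    exact (Nat.odd_pow_iff (by omega)).1 ho
  have h1 := Cfsg.Agent.S0816.result (F := K) r f hf (hs.trans hK) hro m hm
  have h2 := Cfsg.Agent.S0292.result (F := K) hs ho m hm
  have ho' : Nat.card (Cfsg.POmega K (Cfsg.quadFormOdd m K)) = o := by
    rw [← hc] at h2
    omega
  refine deadP_sieve r ps ho' ?_ hps h hp hd hpr hn
  rw [h1, ho', hA]

theorem odd_condP {s m : ℕ} (hs : 3 ≤ s) (hm : 7 ≤ m) : (s + 1) * (2 * m ^ 2 + m + 1) + 4 ≤ s ^ (m - 1) := by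
  obtain ⟨t, rfl⟩ : ∃ t, s = t + 3 := ⟨s - 3, by omega⟩
  induction m, hm using Nat.le_induction with
  | base =>
    norm_num
    nlinarith [Nat.zero_le t, Nat.zero_le (t ^ 2), Nat.zero_le (t ^ 3), Nat.zero_le (t ^ 4), Nat.zero_le (t ^ 5),
      Nat.zero_le (t ^ 6)]
  | succ m hm ih =>
    have h1 : m + 1 - 1 = (m - 1) + 1 := by omega
    rw [h1, pow_succ]
    have h2 : ((t + 3 + 1) * (2 * m ^ 2 + m + 1) + 4) * 3 ≤ (t + 3) ^ (m - 1) * (t + 3) :=
      Nat.mul_le_mul ih (by omega)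
    refine le_trans ?_ h2
    have h3 : 2 * (m + 1) ^ 2 + (m + 1) + 1 ≤ 3 * (2 * m ^ 2 + m + 1) := by nlinarith only [hm]
    have h4 : (t + 3 + 1) * (2 * (m + 1) ^ 2 + (m + 1) + 1) ≤ (t + 3 + 1) * (3 * (2 * m ^ 2 + m + 1)) :=
      Nat.mul_le_mul_left _ h3
    calc (t + 3 + 1) * (2 * (m + 1) ^ 2 + (m + 1) + 1) + 4
        ≤ (t + 3 + 1) * (3 * (2 * m ^ 2 + m + 1)) + 12 := by omega
      _ = ((t + 3 + 1) * (2 * m ^ 2 + m + 1) + 4) * 3 := by ring

theorem two_mul_le {a N : ℕ} (hN : 1 ≤ N) (h : a ≤ 2 ^ (N - 1)) : 2 * a ≤ 2 ^ N := by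
  obtain ⟨k, rfl⟩ : ∃ k, N = k + 1 := ⟨N - 1, by omega⟩
  rw [Nat.add_sub_cancel] at h
  rw [pow_succ]
  omega

theorem deadP_odd {n p : ℕ} (hp : p.Prime) (hd : p ∣ Nat.card (Cfsg.POmega K (Cfsg.quadFormOdd m K)))
    (hpr : ∀ r, r.Prime → r ∣ Fintype.card K → p ≠ r) (hm : 3 ≤ m) (ho : Odd (Fintype.card K))
    (h1 : Fintype.card K ^ 3 - 1 ≤ n)
    (h2 : ¬ (m = 3 ∧ Fintype.card K = 3) → Fintype.card K ^ (m - 1) - 1 ≤ n) :
    DeadP p n (Cfsg.POmega K (Cfsg.quadFormOdd m K)) := by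
  have h3 : 3 ≤ Fintype.card K := by
    have h6 : 1 < Fintype.card K := Fintype.one_lt_card
    obtain ⟨k, hk⟩ := ho
    omega
  rcases (show Fintype.card K = 3 ∨ 5 ≤ Fintype.card K by
    obtain ⟨k, hk⟩ := ho
    omega) with hK | hK
  · -- `s = 3`
    have hp3 : p ≠ 3 := hpr 3 Nat.prime_three (by rw [hK])
    rcases (show m = 3 ∨ m = 4 ∨ m = 5 ∨ m = 6 ∨ 7 ≤ m by omega) with rfl | rfl | rfl | rfl | h7
    · rw [hK] at h1
      exact sieve_oddP hK (by decide) (by norm_num) (by decide) 3 1 Nat.prime_three le_rfl (by norm_num)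
        (by norm_num) [2, 5, 7, 13] (by norm_num only [List.mem_cons, List.not_mem_nil, or_false, forall_eq_or_imp,
            forall_eq, and_self]) TabP.po7_3 hp hd hp3 (by simpa using h1)
    · rw [hK] at h1
      exact sieve_oddP hK (by decide) (by norm_num) (by decide) 3 1 Nat.prime_three le_rfl (by norm_num)
        (by norm_num) [2, 5, 7, 13, 41] (by norm_num only [List.mem_cons, List.not_mem_nil, or_false, forall_eq_or_imp,
            forall_eq, and_self]) TabP.po9_3 hp hd hp3 (by simpa using h1)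
    · have h4 := h2 (by omega)
      rw [hK] at h4
      exact sieve_oddP hK (by decide) (by norm_num) (by decide) 3 1 Nat.prime_three le_rfl (by norm_num)
        (by norm_num) [2, 5, 7, 11, 13, 41, 61] (by norm_num only [List.mem_cons, List.not_mem_nil, or_false,
            forall_eq_or_imp, forall_eq, and_self]) TabP.po11_3 hp hd hp3 (by simpa using h4)
    · have h4 := h2 (by omega)
      rw [hK] at h4
      exact sieve_oddP hK (by decide) (by norm_num) (by decide) 3 1 Nat.prime_three le_rfl (by norm_num)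
        (by norm_num) [2, 5, 7, 11, 13, 41, 61, 73] (by norm_num only [List.mem_cons, List.not_mem_nil, or_false,
            forall_eq_or_imp, forall_eq, and_self]) TabP.po13_3 hp hd hp3 (by simpa using h4)
    · have h4 := h2 (by omega)
      have h5 := odd_condP h3 h7
      refine deadP_odd_size hp hm ho (by omega) (two_mul_le (by omega) (pow_le_B h3 (by omega)))
  · rcases (show m = 3 ∨ m = 4 ∨ m = 5 ∨ m = 6 ∨ 7 ≤ m by omega) with rfl | rfl | rfl | rfl | h7
    · have h5 : Fintype.card K * (2 * 3 ^ 2 + 3 + 1) + 4 ≤ Fintype.card K ^ 3 := by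
        obtain ⟨t, ht⟩ : ∃ t, Fintype.card K = t + 5 := ⟨Fintype.card K - 5, by omega⟩
        rw [ht]
        nlinarith only [Nat.zero_le (t ^ 3)]
      exact deadP_odd_size hp hm ho (by omega) (two_mul_le (by omega) (pow_le_A (by omega) (by omega)))
    · rcases (show Fintype.card K = 5 ∨ 7 ≤ Fintype.card K by
        obtain ⟨k, hk⟩ := ho
        omega) with hK5 | hK7
      · have hp5 : p ≠ 5 := hpr 5 (by norm_num) (by rw [hK5])
        rw [hK5] at h1
        exact sieve_oddP hK5 (by decide) (by norm_num) (by decide) 5 1 (by norm_num) le_rfl (by norm_num)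
          (by norm_num) [2, 3, 7, 13, 31, 313] (by norm_num only [List.mem_cons, List.not_mem_nil, or_false,
              forall_eq_or_imp, forall_eq, and_self]) TabP.po9_5 hp hd hp5 (by simpa only [Nat.reducePow,
              Nat.add_one_sub_one] using h1)
      · have h5 : Fintype.card K * (2 * 4 ^ 2 + 4 + 1) + 4 ≤ Fintype.card K ^ 3 := by
          obtain ⟨t, ht⟩ : ∃ t, Fintype.card K = t + 7 := ⟨Fintype.card K - 7, by omega⟩
          rw [ht]
          nlinarith only [Nat.zero_le (t ^ 3)]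
        exact deadP_odd_size hp hm ho (by omega) (two_mul_le (by omega) (pow_le_A (by omega) (by omega)))
    · have h4 := h2 (by omega)
      have h5 : Fintype.card K * (2 * 5 ^ 2 + 5 + 1) + 4 ≤ Fintype.card K ^ (5 - 1) := by
        obtain ⟨t, ht⟩ : ∃ t, Fintype.card K = t + 5 := ⟨Fintype.card K - 5, by omega⟩
        rw [ht]
        norm_num
        nlinarith only [Nat.zero_le (t ^ 3), Nat.zero_le (t ^ 4)]
      exact deadP_odd_size hp hm ho (by omega) (two_mul_le (by omega) (pow_le_A (by omega) (by omega)))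
    · have h4 := h2 (by omega)
      have h5 : Fintype.card K * (2 * 6 ^ 2 + 6 + 1) + 4 ≤ Fintype.card K ^ (6 - 1) := by
        obtain ⟨t, ht⟩ : ∃ t, Fintype.card K = t + 5 := ⟨Fintype.card K - 5, by omega⟩
        rw [ht]
        norm_num
        nlinarith only [Nat.zero_le (t ^ 3), Nat.zero_le (t ^ 4), Nat.zero_le (t ^ 5)]
      exact deadP_odd_size hp hm ho (by omega) (two_mul_le (by omega) (pow_le_A (by omega) (by omega)))
    · have h4 := h2 (by omega)
      have h5 := odd_condP h3 h7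
      exact deadP_odd_size hp hm ho (by omega) (two_mul_le (by omega) (pow_le_B h3 (by omega)))

end odd

/-! ### `PΩ⁺_{2m}(s)` -/

section plus

variable {K : Type} [Field K] [Fintype K] {m : ℕ}

theorem deadP_plus_size {n p b : ℕ} (hp : p.Prime) (hb : b ≤ p) (hm : 4 ≤ m) (hn : 2 ≤ n)
    (h : 288 * Fintype.card K ^ (2 * (2 * m ^ 2 - m + 1)) ≤ b ^ (n - 2)) :
    DeadP p n (Cfsg.POmega K (Cfsg.quadFormPlus m K)) := by
  refine deadP_of_pow (b := b) (A := 12 * Fintype.card K ^ (2 * m ^ 2 - m + 1)) hp hn hb (aut_plus hm)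
    Nat.card_pos ?_
  rw [mul_pow, ← pow_mul, mul_comm (2 * m ^ 2 - m + 1) 2]
  refine le_trans (le_of_eq ?_) h
  ring

theorem sieve_plusP {n p m s o A n₀ : ℕ} (hs : Fintype.card K = s) (hm : 4 ≤ m)
    (ho : Nat.gcd 4 (s ^ m - 1) * o = s ^ (m * (m - 1)) * (s ^ m - 1) * ∏ i ∈ Finset.range (m - 1), (s ^ (2 * (i + 1)) - 1))
    (r f : ℕ) (hr : r.Prime) (hf : 1 ≤ f) (hK : s = r ^ f)
    (hA : (if m = 4 then 3 else 1) * (if r = 2 then 2 else (if Even (m * (r ^ f - 1) / 2) then 8 else 4)) * f * o = A)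
    (ps : List ℕ)
    (hps : ∀ t ∈ r :: ps, t.Prime) (h : chkP r ps o A n₀ = true) (hp : p.Prime)
    (hd : p ∣ Nat.card (Cfsg.POmega K (Cfsg.quadFormPlus m K))) (hpr : p ≠ r) (hn : n₀ ≤ n) :
    DeadP p n (Cfsg.POmega K (Cfsg.quadFormPlus m K)) := by
  have := Fact.mk hr
  have h2 := Cfsg.Agent.S0293.result (F := K) hs m hm
  have hpos : 0 < Nat.gcd 4 (s ^ m - 1) := Nat.gcd_pos_of_pos_left _ (by norm_num)
  have ho' : Nat.card (Cfsg.POmega K (Cfsg.quadFormPlus m K)) = o :=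
    Nat.eq_of_mul_eq_mul_left hpos (h2.trans ho.symm)
  have h3 := Cfsg.Agent.S0817.result (F := K) r f hf (hs.trans hK) m hm
  refine deadP_sieve r ps ho' ?_ hps h hp hd hpr hn
  rw [h3, ho', hA]

theorem plus_condP {s m : ℕ} (hs : 3 ≤ s) (hm : 7 ≤ m) : (s + 1) * (2 * m ^ 2) + 12 ≤ s ^ (m - 1) := by
  obtain ⟨t, rfl⟩ : ∃ t, s = t + 3 := ⟨s - 3, by omega⟩
  induction m, hm using Nat.le_induction with
  | base =>
    norm_num
    nlinarith only [Nat.zero_le (t ^ 3), Nat.zero_le (t ^ 4), Nat.zero_le (t ^ 5), Nat.zero_le (t ^ 6)]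
  | succ m hm ih =>
    have h1 : m + 1 - 1 = (m - 1) + 1 := by omega
    rw [h1, pow_succ]
    have h2 : ((t + 3 + 1) * (2 * m ^ 2) + 12) * 3 ≤ (t + 3) ^ (m - 1) * (t + 3) :=
      Nat.mul_le_mul ih (by omega)
    refine le_trans ?_ h2
    have h3 : 2 * (m + 1) ^ 2 ≤ 3 * (2 * m ^ 2) := by nlinarith only [hm]
    have h4 : (t + 3 + 1) * (2 * (m + 1) ^ 2) ≤ (t + 3 + 1) * (3 * (2 * m ^ 2)) :=
      Nat.mul_le_mul_left _ h3
    calc (t + 3 + 1) * (2 * (m + 1) ^ 2) + 12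
        ≤ (t + 3 + 1) * (3 * (2 * m ^ 2)) + 36 := by omega
      _ = ((t + 3 + 1) * (2 * m ^ 2) + 12) * 3 := by ring

theorem plus_cond_twoP {m : ℕ} (hm : 9 ≤ m) : 2 * (9 + 4 * m ^ 2) + 9 ≤ 3 * 2 ^ (m - 1) + 3 * m := by
  induction m, hm using Nat.le_induction with
  | base => norm_num
  | succ m hm ih =>
    have h1 : m + 1 - 1 = (m - 1) + 1 := by omega
    have h6 : 2 ^ (m - 1 + 1) = 2 * 2 ^ (m - 1) := by ring
    rw [h1, h6]
    have h4 : (m + 1) ^ 2 = m ^ 2 + 2 * m + 1 := by ring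
    have h5 : 20 * m ≤ 8 * m ^ 2 := by nlinarith only [hm]
    rw [h4]
    omega

theorem mul_le_of {a N : ℕ} (hN : 9 ≤ N) (h : a ≤ 2 ^ (N - 9)) : 288 * a ≤ 2 ^ N := by
  obtain ⟨k, rfl⟩ : ∃ k, N = k + 9 := ⟨N - 9, by omega⟩
  rw [Nat.add_sub_cancel] at h
  rw [pow_add]
  omega

theorem deadP_plus {n p : ℕ} (hp : p.Prime) (hd : p ∣ Nat.card (Cfsg.POmega K (Cfsg.quadFormPlus m K)))
    (hpr : ∀ r, r.Prime → r ∣ Fintype.card K → p ≠ r) (hm : 4 ≤ m) (hn : 13 ≤ n)
    (h1 : ¬ (m = 4 ∧ Fintype.card K = 2) → Fintype.card K ^ 3 - 1 ≤ n)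
    (h2 : ¬ (m = 4 ∧ Fintype.card K = 2) → Fintype.card K ^ (m - 1) - 1 ≤ n) :
    DeadP p n (Cfsg.POmega K (Cfsg.quadFormPlus m K)) := by
  have h6 : 1 < Fintype.card K := Fintype.one_lt_card
  rcases (show Fintype.card K = 2 ∨ Fintype.card K = 3 ∨ 4 ≤ Fintype.card K by omega) with hK | hK | hK
  · have hp2 : p ≠ 2 := hpr 2 Nat.prime_two (by rw [hK])
    rcases (show m = 4 ∨ m = 5 ∨ m = 6 ∨ m = 7 ∨ m = 8 ∨ 9 ≤ m by omega) with rfl | rfl | rfl | rfl | rfl | h9
    · exact sieve_plusP hK (by norm_num) (by decide) 2 1 Nat.prime_two le_rfl (by norm_num) (by norm_num)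
        [3, 5, 7] (by norm_num only [List.mem_cons, List.not_mem_nil, or_false, forall_eq_or_imp, forall_eq, and_self]) TabP.pop8_2 hp hd hp2 hn
    · have h3 := h2 (by omega)
      rw [hK] at h3
      exact sieve_plusP hK (by norm_num) (by decide) 2 1 Nat.prime_two le_rfl (by norm_num) (by norm_num)
        [3, 5, 7, 17, 31] (by norm_num only [List.mem_cons, List.not_mem_nil, or_false, forall_eq_or_imp, forall_eq, and_self]) TabP.pop10_2 hp hd hp2 h3
    · have h3 := h2 (by omega)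
      rw [hK] at h3
      exact sieve_plusP hK (by norm_num) (by decide) 2 1 Nat.prime_two le_rfl (by norm_num) (by norm_num)
        [3, 5, 7, 11, 17, 31] (by norm_num only [List.mem_cons, List.not_mem_nil, or_false, forall_eq_or_imp, forall_eq,
            and_self]) TabP.pop12_2 hp hd hp2 h3
    · have h3 := h2 (by omega)
      rw [hK] at h3
      exact sieve_plusP hK (by norm_num) (by decide) 2 1 Nat.prime_two le_rfl (by norm_num) (by norm_num)
        [3, 5, 7, 11, 13, 17, 31, 127] (by norm_num only [List.mem_cons, List.not_mem_nil, or_false, forall_eq_or_imp,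
            forall_eq, and_self]) TabP.pop14_2 hp hd hp2 h3
    · have h3 := h2 (by omega)
      rw [hK] at h3
      exact sieve_plusP hK (by norm_num) (by decide) 2 1 Nat.prime_two le_rfl (by norm_num) (by norm_num)
        [3, 5, 7, 11, 13, 17, 31, 43, 127] (by norm_num only [List.mem_cons, List.not_mem_nil, or_false, forall_eq_or_imp,
            forall_eq, and_self]) TabP.pop16_2 hp hd hp2 h3
    · have h3 := h2 (by omega)
      rw [hK] at h3
      have h4 := plus_cond_twoP h9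
      have h5 : m ≤ 2 * m ^ 2 := by nlinarith only [hm, h9]
      refine deadP_plus_size (b := 3) hp (by have := hp.two_le; (clear * - hp2 h9 h4 h5 this; omega)) hm (by omega) ?_
      rw [hK]
      calc 288 * 2 ^ (2 * (2 * m ^ 2 - m + 1)) ≤ 2 ^ 9 * 2 ^ (2 * (2 * m ^ 2 - m + 1)) :=
            Nat.mul_le_mul_right _ (by norm_num)
        _ = 2 ^ (9 + 2 * (2 * m ^ 2 - m + 1)) := (pow_add _ _ _).symm
        _ ≤ 3 ^ (n - 2) := pow_le_C (by omega)
  · have hp3 : p ≠ 3 := hpr 3 Nat.prime_three (by rw [hK])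
    have h3 := h2 (by omega)
    have h4 := h1 (by omega)
    rcases (show m = 4 ∨ m = 5 ∨ m = 6 ∨ 7 ≤ m by omega) with rfl | rfl | rfl | h7
    · rw [hK] at h4
      exact sieve_plusP hK (by norm_num) (by decide) 3 1 Nat.prime_three le_rfl (by norm_num) (by norm_num)
        [2, 5, 7, 13] (by norm_num only [List.mem_cons, List.not_mem_nil, or_false, forall_eq_or_imp, forall_eq, and_self]) TabP.pop8_3 hp hd hp3 (by simpa using h4)
    · rw [hK] at h3
      exact sieve_plusP hK (by norm_num) (by decide) 3 1 Nat.prime_three le_rfl (by norm_num) (by norm_num)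
        [2, 5, 7, 11, 13, 41] (by norm_num only [List.mem_cons, List.not_mem_nil, or_false, forall_eq_or_imp, forall_eq,
            and_self]) TabP.pop10_3 hp hd hp3 (by simpa using h3)
    · rw [hK] at h3
      refine deadP_plus_size (b := 2) hp hp.two_le hm (by omega) ?_
      rw [hK]
      have h5 : 240 ≤ n - 2 := by
        norm_num at h3
        omega
      refine le_trans ?_ (Nat.pow_le_pow_right (by norm_num) h5)
      norm_num
    · have h5 := plus_condP (s := Fintype.card K) (by omega) h7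
      have h9 : m ≤ 2 * m ^ 2 := by nlinarith only [hm, h7]
      have h8 : (Fintype.card K + 1) * (2 * m ^ 2 - m + 1) ≤ (Fintype.card K + 1) * (2 * m ^ 2) :=
        Nat.mul_le_mul_left _ (by omega)
      exact deadP_plus_size (b := 2) hp hp.two_le hm (by omega)
        (mul_le_of (by omega) (pow_le_B (by omega) (by omega)))
  · have h3 := h2 (by omega)
    have h4 := h1 (by omega)
    rcases (show m = 4 ∨ m = 5 ∨ m = 6 ∨ 7 ≤ m by omega) with rfl | rfl | rfl | h7
    · rcases (show Fintype.card K = 4 ∨ Fintype.card K = 5 ∨ Fintype.card K = 6 ∨ 7 ≤ Fintype.card K by omega) with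
        hK4 | hK5 | hK6 | hK7
      · have hp2 : p ≠ 2 := hpr 2 Nat.prime_two (by rw [hK4]; norm_num)
        rw [hK4] at h4
        exact sieve_plusP hK4 (by norm_num) (by decide) 2 2 Nat.prime_two (by norm_num) (by norm_num) (by norm_num)
          [3, 5, 7, 13, 17] (by norm_num only [List.mem_cons, List.not_mem_nil, or_false, forall_eq_or_imp, forall_eq,
              and_self]) TabP.pop8_4 hp hd hp2 (by simpa using h4)
      · have hp5 : p ≠ 5 := hpr 5 (by norm_num) (by rw [hK5])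
        rw [hK5] at h4
        exact sieve_plusP hK5 (by norm_num) (by decide) 5 1 (by norm_num) le_rfl (by norm_num) (by norm_num)
          [2, 3, 7, 13, 31] (by norm_num only [List.mem_cons, List.not_mem_nil, or_false, forall_eq_or_imp, forall_eq,
              and_self]) TabP.pop8_5 hp hd hp5 (by simpa using h4)
      · exfalso
        obtain ⟨r, f, hr, hf, hKr, -⟩ := exists_char K
        rw [hK6] at hKr
        have e2 : 2 = r := (Nat.prime_dvd_prime_iff_eq Nat.prime_two hr).1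
          (Nat.prime_two.dvd_of_dvd_pow (n := f) (by rw [← hKr]; norm_num))
        have e3 : 3 = r := (Nat.prime_dvd_prime_iff_eq Nat.prime_three hr).1
          (Nat.prime_three.dvd_of_dvd_pow (n := f) (by rw [← hKr]; norm_num))
        omega
      · have h5 : Fintype.card K * (2 * 4 ^ 2 - 4 + 1) + 12 ≤ Fintype.card K ^ 3 := by
          obtain ⟨t, ht⟩ : ∃ t, Fintype.card K = t + 7 := ⟨Fintype.card K - 7, by omega⟩
          rw [ht]
          norm_num
          nlinarith only [Nat.zero_le (t ^ 3)]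
        exact deadP_plus_size (b := 2) hp hp.two_le hm (by omega)
          (mul_le_of (by omega) (pow_le_A (by omega) (by omega)))
    · have h5 : Fintype.card K * (2 * 5 ^ 2 - 5 + 1) + 12 ≤ Fintype.card K ^ (5 - 1) := by
        obtain ⟨t, ht⟩ : ∃ t, Fintype.card K = t + 4 := ⟨Fintype.card K - 4, by omega⟩
        rw [ht]
        norm_num
        nlinarith only [Nat.zero_le (t ^ 3), Nat.zero_le (t ^ 4)]
      exact deadP_plus_size (b := 2) hp hp.two_le hm (by omega)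
        (mul_le_of (by omega) (pow_le_A (by omega) (by omega)))
    · have h5 : Fintype.card K * (2 * 6 ^ 2 - 6 + 1) + 12 ≤ Fintype.card K ^ (6 - 1) := by
        obtain ⟨t, ht⟩ : ∃ t, Fintype.card K = t + 4 := ⟨Fintype.card K - 4, by omega⟩
        rw [ht]
        norm_num
        nlinarith only [Nat.zero_le (t ^ 3), Nat.zero_le (t ^ 4), Nat.zero_le (t ^ 5)]
      exact deadP_plus_size (b := 2) hp hp.two_le hm (by omega)
        (mul_le_of (by omega) (pow_le_A (by omega) (by omega)))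
    · have h5 := plus_condP (s := Fintype.card K) (by omega) h7
      have h9 : m ≤ 2 * m ^ 2 := by nlinarith only [hm, h7]
      have h8 : (Fintype.card K + 1) * (2 * m ^ 2 - m + 1) ≤ (Fintype.card K + 1) * (2 * m ^ 2) :=
        Nat.mul_le_mul_left _ (by omega)
      exact deadP_plus_size (b := 2) hp hp.two_le hm (by omega)
        (mul_le_of (by omega) (pow_le_B (by omega) (by omega)))

end plus

section main

variable {F : Type u} [Field F] [Finite F] {n p : ℕ} [Fact p.Prime] [CharP F p]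
  {P : Subgroup (Matrix.GeneralLinearGroup (Fin n) F)}

open Cfsg.Agent.H936.List12 Cfsg.Agent.H912.Bd

theorem ne_of_char {K : Type} [Field K] [Fintype K] {r p : ℕ} (hr : r.Prime) (hch : CharP K r) (hne : p ≠ r) :
    ∀ t : ℕ, t.Prime → t ∣ Fintype.card K → p ≠ t := by
  intro t ht hd
  have := Fact.mk hr
  obtain ⟨f, -, hf⟩ := FiniteField.card K r
  rw [hf] at hd
  rw [(Nat.prime_dvd_prime_iff_eq ht hr).1 (ht.dvd_of_dvd_pow hd)]
  exact hne

/-- **PB4** -/
theorem deadP_omega_odd (hC : Core P) (_hn : 13 ≤ n) (hp : p ∣ Nat.card (Soc P))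
    (hL : ¬ Cfsg.IsLieTypeChar p (Soc P)) (hT : Cfsg.IsPOmegaOdd (Soc P)) : DeadP p n (Soc P) := by
  obtain ⟨K, _, _, m, hm, ho, ⟨e⟩⟩ := hT
  obtain ⟨r, f, hr, hf, hK, hch⟩ := exists_char K
  have hrs : r ∣ Fintype.card K := by rw [hK]; exact dvd_pow_self r (by omega)
  have hcard : Nat.card (Soc P) = Nat.card (Cfsg.POmega K (Cfsg.quadFormOdd m K)) := Nat.card_congr e.toEquiv
  have hrp : r ≠ p := by
    rintro rfl
    exact hL (Or.inr (Or.inr (Or.inr (Or.inl ⟨K, _, _, hch, m, hm, ho, ⟨e⟩⟩))))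
  have hrF : (r : F) ≠ 0 := cast_ne hr hrp
  refine DeadP.congr e.symm ?_
  rw [hcard] at hp
  have hpp : p.Prime := Fact.out
  by_cases h33 : m = 3 ∧ Fintype.card K = 3
  · obtain ⟨rfl, hK3⟩ := h33
    have hr3 : r = 3 := by
      have h : r ∣ 3 := by rw [← hK3]; exact hrs
      exact (Nat.prime_dvd_prime_iff_eq hr Nat.prime_three).1 h
    subst hr3
    have h26 := le_of_ls' hC hrF (H95.LSx.ls_o73 hK3) ⟨e⟩
    refine deadP_odd hpp hp (ne_of_char hr hch hrp.symm) hm ho (by rw [hK3]; norm_num; exact h26)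
      (fun h => absurd ⟨rfl, hK3⟩ h)
  · have hN : NoR.{u} r (Cfsg.POmega K (Cfsg.quadFormOdd m K)) := by
      refine NoR.of_cyclic (S2094.result (F := K) rfl ho m hm h33) ?_
      rw [Nat.coprime_two_left]
      exact Odd.of_dvd_nat ho hrs
    exact deadP_odd hpp hp (ne_of_char hr hch hrp.symm) hm ho
      (le_of_bd hC (bd_pomega_odd_cube hr hrF hch hm) hN ⟨e⟩)
      (fun _ => le_of_bd hC (bd_pomega_odd_sl hr hrF hch hm) hN ⟨e⟩)

/-- **PB5** -/
theorem deadP_omega_plus (hC : Core P) (hn : 13 ≤ n) (hp : p ∣ Nat.card (Soc P))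
    (hL : ¬ Cfsg.IsLieTypeChar p (Soc P)) (hT : Cfsg.IsPOmegaPlus (Soc P)) : DeadP p n (Soc P) := by
  obtain ⟨K, iK, iKf, m, hm, ⟨e⟩⟩ := hT
  obtain ⟨r, f, hr, hf, hK, hch⟩ := exists_char K
  have hrs : r ∣ Fintype.card K := by rw [hK]; exact dvd_pow_self r (by omega)
  have hcard : Nat.card (Soc P) = Nat.card (Cfsg.POmega K (Cfsg.quadFormPlus m K)) := Nat.card_congr e.toEquiv
  have hrp : r ≠ p := by
    rintro rfl
    exact hL (Or.inr (Or.inr (Or.inr (Or.inr (Or.inl ⟨K, iK, iKf, hch, m, hm, ⟨e⟩⟩)))))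
  have hrF : (r : F) ≠ 0 := cast_ne hr hrp
  refine DeadP.congr e.symm ?_
  rw [hcard] at hp
  have hpp : p.Prime := Fact.out
  have hN : ¬ (m = 4 ∧ Fintype.card K = 2) → NoR.{u} r (Cfsg.POmega K (Cfsg.quadFormPlus m K)) :=
    fun h => noR_plus hr hrs hm h
  exact deadP_plus hpp hp (ne_of_char hr hch hrp.symm) hm hn
    (fun h => le_of_bd hC (bd_pomega_plus_cube hr hrF hch (by omega)) (hN h) ⟨e⟩)
    (fun h => le_of_bd hC (bd_pomega_plus_sl hr hrF hch (by omega)) (hN h) ⟨e⟩)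

end main

end Cfsg.Agent.H576.HT
end

-- part: H391/HT/UFourThree
section
set_option linter.all false
open scoped Cfsg.Agent.FastGrp

/-!
# S3512, `p = 2`: `U₄(3)` does not occur (the Frobenius group `5:4` in `PSp₄(3)`)
-/

set_option autoImplicit false
set_option linter.unusedSectionVars false

universe u w

namespace Cfsg.Agent.H391.HT

open Cfsg Module Cfsg.Agent.H828.HT Cfsg.Agent.H742.HT Cfsg.Agent.H192.Ht Cfsg.Agent.H933.HT Cfsg.Agent.ClassicalGeometry.PSUAutBasic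

theorem g5_pow : (g5 ^ 4).1 = -1 := by
  rw [SubmonoidClass.coe_pow]
  decide

/-- `5:4` in `U₄(3)` -/
theorem u43_elts {F : Type*} [Field F] [Fintype F] (hF : Fintype.card F = 3 ^ 2) :
    ∃ y z : Cfsg.PSU 4 F 3, z ^ 5 = 1 ∧ z ≠ 1 ∧ y ^ 4 = 1 ∧ y * z * y⁻¹ = z ^ 2 := by
  have h3p : Fact (Nat.Prime 3) := ⟨Nat.prime_three⟩
  have hch := charP_three hF
  have h2 : (2 : F) ≠ 0 := by
    intro h
    have h3 : (3 : F) = 0 := by
      have := CharP.cast_eq_zero F 3
      exact_mod_cast this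
    have : (1 : F) = 0 := by linear_combination h3 - h
    exact one_ne_zero this
  obtain ⟨ψ, hψ, hc⟩ := H373.OC.exists_spSU (q := 3) hF h2 (ZMod.castHom (dvd_refl 3) F) (by
    intro x
    rw [← map_pow, ZMod.pow_card])
  refine ⟨pr 4 F 3 (ψ g5), pr 4 F 3 (ψ y5), ?_, ?_, ?_, ?_⟩
  · rw [← map_pow, ← map_pow, y5_pow, map_one, map_one]
  · intro h
    rw [pr_eq_one_iff] at h
    have h3 := Subgroup.mem_center_iff.1 h (ψ g5)
    rw [← map_mul, ← map_mul] at h3
    have h4 := hψ h3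
    rw [g5_y5, pow_two, mul_assoc] at h4
    have h5 := mul_left_cancel h4
    have h6 : y5 = 1 := mul_right_cancel (h5.trans (one_mul g5).symm)
    exact y5_ne h6
  · rw [← map_pow, ← map_pow, pr_eq_one_iff]
    exact hc _ g5_pow
  · rw [mul_inv_eq_iff_eq_mul, ← map_mul, ← map_mul, g5_y5, map_mul, map_mul, map_pow, map_pow]

variable {p : ℕ} [Fact p.Prime] {K : Type w} [Field K] {V : Type u} [AddCommGroup V] [Module (ZMod p) V] [Finite V]
    [Module K V] {G L : Subgroup (V ≃ₗ[ZMod p] V)} {h : ℕ}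

/-- **`U₄(3)`** -/
theorem u43 (H : QL p K V G L h) {m : ℕ} (hm : m * h = Nat.card G)
    (hl : (finrank K V, Nat.card K, m) ∈ [(6, 4, 315), (12, 2, 315)]) (hS : H912.Bd.IsU 4 3 (L ⧸ Subgroup.center L)) :
    False := by
  obtain ⟨F, _, _, hF, ⟨e⟩⟩ := hS
  obtain ⟨y, z, h1, h2, h3, h4⟩ := u43_elts hF
  have hG := QN.card_G_dvd H
  have hA : Nat.card (MulAut (L ⧸ Subgroup.center L)) = 26127360 := by
    rw [← u43_aut hF]
    exact Nat.card_congr (MulAut.congr e).toEquiv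
  rw [hA] at hG
  refine H919.HT.MTT.five_four H hm hl (fun h5 => ?_) (y := e.symm y) (z := e.symm z) ?_ ?_ ?_ ?_
  · simp only [List.mem_cons, Prod.mk.injEq, List.not_mem_nil, or_false] at hl
    have h6 := h5.trans hG
    rcases hl with ⟨-, h7, -⟩ | ⟨-, h7, -⟩ <;> rw [h7] at h6 <;> revert h6 <;> decide
  · rw [← map_pow, h1, map_one]
  · intro h5
    exact h2 (e.symm.injective (by rw [h5, map_one]))
  · rw [← map_pow, h3, map_one]
  · rw [← map_inv, ← map_mul, ← map_mul, ← map_pow, h4]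

end Cfsg.Agent.H391.HT
end

-- part: H306/HT/Tra
section
prune_inst 0x2
set_option linter.all false
open scoped Cfsg.Agent.FastGrp

/-!
# Own characteristic: transitivity on the nonzero vectors (helper306, for S3512)

`L ≤ GL(V)` irreducible, acting on a thick building with a system of Sylow `p`-subgroups `U x`, every vector fixed by a Sylow
`p`-subgroup.  For two adjacent chambers `x`, `y` with `V_x ≠ V_y` (`V_x = C_V(U x)`) the map `u ↦ u v - v` from `U x` to `V_x`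
is onto for every `v ∈ V_y`, `v ≠ 0`: the nonzero vectors of `V_x` and `V_y` are in one orbit.  So `L` is transitive on the
nonzero vectors.
-/

set_option autoImplicit false
set_option linter.unusedSectionVars false
set_option linter.style.haveILetI false

namespace Cfsg.Agent.H306.HT

open Module
open Cfsg.Agent.H50.Her
open Cfsg.Agent.ChevalleyStructure.CoxeterGeom Cfsg.Agent.Nodes.Reps
open Cfsg.Agent.Tits.Core Cfsg.Agent.Tits.Core.Bldg Cfsg.Agent.Tits.Exchange Cfsg.Agent.Tits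
open Cfsg.Agent.FixBN Cfsg.Agent.FixBN.Cox Cfsg.Agent.Omega.CR Cfsg.Agent.Omega.CR.Bl Cfsg.Agent.H905.DC

universe u v

section abs

variable {I : Type*} {M : CoxeterMatrix I} {W : Type*} [Group W] {cs : CoxeterSystem M W} {C : Type*}
  {Δ : Bldg cs C}
variable {G : Type*} [Group G] [MulAction G C] {p : ℕ} {S : Sys Δ G p} [F : OppRes.Cox cs]
variable {V : Type*} [AddCommGroup V] [Module (ZMod p) V] {ρ : G →* Module.End (ZMod p) V}
variable [Fintype C] [Fact p.Prime] (hth : Δ.Thick) [Finite G] [Finite V] [Nontrivial V]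
  (hirr : ∀ L : Submodule (ZMod p) V, Ivt ρ ⊤ L → L = ⊥ ∨ L = ⊤) (hcov : ∀ v : V, ∃ x, v ∈ Vx S ρ x)
  {a : ℕ} {lab : W → ℕ} {P : ℕ} (hL : Lab S ρ a lab P)

include hth hirr hcov hL

/-- `k ∉ J`: the label of `s_k` is one -/
theorem lab_one {k : I} (hk : IsMinR cs (Jset S ρ) (cs.simple k)) (hkJ : cs.simple k ∉ WJ cs (Jset S ρ)) (x : C) :
    lab (cs.simple k) = 1 := by
  have h1 := card_panel (S := S) hth hirr hcov hL (k := k) ⟨1, by rwa [inv_one, one_mul, mul_one]⟩ x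
  have h2 := hL.sph _ hk x
  rw [h1] at h2
  have h3 : P ^ lab (cs.simple k) = P ^ 1 := by rw [← h2, pow_one]
  exact Nat.pow_right_injective hL.two_le h3

/-- the vectors of adjacent blocks -/
theorem adj_orbit {k : I} (hk : IsMinR cs (Jset S ρ) (cs.simple k)) (hkJ : cs.simple k ∉ WJ cs (Jset S ρ)) {x y : C}
    (hxy : Δ.δ x y = cs.simple k) {b v : V} (hb : b ∈ Vx S ρ x) (hv : v ∈ Vx S ρ y) (hv0 : v ≠ 0) :
    ∃ u ∈ S.U x, ρ u v = b + v := by
  classical
  have hl := lab_one (S := S) hth hirr hcov hL hk hkJ x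
  obtain ⟨hφ, hinf⟩ := adj_data (S := S) hth hirr hcov hL hxy hk hl
  -- the chambers opposite to `x` in the panel
  have hsurj : ∀ z : {z : C // Δ.δ x z = cs.simple k}, ∃ u : S.U x, (u : G) • y = z.1 := by
    rintro ⟨z, hz⟩
    obtain ⟨u, hu, e⟩ := S.exists_move (x := x) (hxy.trans hz.symm)
    exact ⟨⟨u, hu⟩, e⟩
  choose f hf using hsurj
  let Φ : {z : C // Δ.δ x z = cs.simple k} → Vx S ρ x := fun z => ⟨ρ (f z : G) v - v, hφ _ (f z).2 v hv⟩
  have hΦ : Function.Injective Φ := by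
    intro z z' h
    have h1 : ρ (f z : G) v = ρ (f z' : G) v := by
      have h2 : ρ (f z : G) v - v = ρ (f z' : G) v - v := congrArg Subtype.val h
      exact sub_left_injective h2
    by_contra hne
    have hne' : z.1 ≠ z'.1 := fun h => hne (Subtype.ext h)
    have h2 : ρ (f z : G) v ∈ Vx S ρ z.1 := by
      have := rho_mem_Vx S ρ (f z : G) hv
      rwa [hf z] at this
    have h3 : ρ (f z : G) v ∈ Vx S ρ z'.1 := by
      rw [h1]
      have := rho_mem_Vx S ρ (f z' : G) hv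
      rwa [hf z'] at this
    have h4 : ρ (f z : G) v ≠ 0 := by
      intro h0
      apply hv0
      apply (rhoEquiv ρ (f z : G)).injective
      rw [map_zero]
      exact h0
    have h5 : Δ.δ z.1 z'.1 = cs.simple k :=
      Δ.δ_eq_of_mem_Pan (x := x) (Δ.mem_Pan_of_δ z.2) (Δ.mem_Pan_of_δ z'.2) hne'
    apply hkJ
    rw [← h5]
    exact (Vx_eq_iff_mem (S := S) hth hirr _ _).1 (Vx_eq_of_mem (S := S) hth hirr h2 h3 h4)
  have hcard : Nat.card {z : C // Δ.δ x z = cs.simple k} = Nat.card (Vx S ρ x) := by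
    rw [card_panel (S := S) hth hirr hcov hL (k := k) ⟨1, by rwa [inv_one, one_mul, mul_one]⟩ x, hL.card_Vx]
  have hbij : Function.Bijective Φ := (Nat.bijective_iff_injective_and_card Φ).2 ⟨hΦ, hcard⟩
  obtain ⟨z, hz⟩ := hbij.2 ⟨b, hb⟩
  refine ⟨f z, (f z).2, ?_⟩
  have h1 : ρ (f z : G) v - v = b := congrArg Subtype.val hz
  rw [← h1, sub_add_cancel]

/-- **Transitivity on the nonzero vectors.** -/
theorem tra_abs (hJ : ∃ k, cs.simple k ∉ WJ cs (Jset S ρ) ∧ IsMinR cs (Jset S ρ) (cs.simple k)) {v w : V}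
    (hv0 : v ≠ 0) (hw0 : w ≠ 0) : ∃ g : G, ρ g v = w := by
  obtain ⟨k, hkJ, hk⟩ := hJ
  obtain ⟨x, hx⟩ := hcov v
  obtain ⟨x', hx'⟩ := hcov w
  -- all the blocks are conjugate
  obtain ⟨g, hg, -⟩ := exists_smul_pair (S := S) hth (x := x') (y := x') (x' := x) (y' := x)
    (by rw [Δ.δ_self, Δ.δ_self])
  have hw' : ρ g w ∈ Vx S ρ x := by
    have := rho_mem_Vx S ρ g hx'
    rwa [hg] at this
  have hw'0 : ρ g w ≠ 0 := by
    intro h0
    apply hw0
    apply (rhoEquiv ρ g).injective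
    rw [map_zero]
    exact h0
  obtain ⟨y, hxy⟩ := Δ.exists_δ x (cs.simple k)
  obtain ⟨m, hm, hm0⟩ := (Submodule.ne_bot_iff _).1 (Vx_ne_bot' (S := S) (ρ := ρ) y)
  have hyx := Δ.δ_symm_simple hxy
  -- `m → b + m ← b`
  have key : ∀ b ∈ Vx S ρ x, b ≠ 0 → ∃ h : G, ρ h m = b := by
    intro b hb hb0
    obtain ⟨u, -, hu⟩ := adj_orbit (S := S) hth hirr hcov hL hk hkJ hxy hb hm hm0
    obtain ⟨u', -, hu'⟩ := adj_orbit (S := S) hth hirr hcov hL hk hkJ hyx hm hb hb0
    refine ⟨u'⁻¹ * u, ?_⟩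
    rw [rho_mul, hu, add_comm, ← hu', ← rho_mul, inv_mul_cancel, map_one]
    rfl
  obtain ⟨h1, e1⟩ := key v hx hv0
  obtain ⟨h2, e2⟩ := key _ hw' hw'0
  refine ⟨g⁻¹ * (h2 * h1⁻¹), ?_⟩
  have e3 : ρ h1⁻¹ v = m := by
    rw [← e1, ← rho_mul, inv_mul_cancel, map_one]
    rfl
  rw [rho_mul, rho_mul, e3, e2, ← rho_mul, inv_mul_cancel, map_one]
  rfl

end abs

end Cfsg.Agent.H306.HT
end

-- part: H306/HT/Own
section
prune_inst 0x2
set_option linter.all false
open scoped Cfsg.Agent.FastGrp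

/-!
# Own characteristic: the families (helper306, for S3512)

`DV L` : `L ≤ GL(V)` irreducible, `L / Z(L)` simple, `|Z(L)|` prime to `p`, every vector fixed by a Sylow `p`-subgroup of `L`.

`DV.tra` : `L / Z(L)` of Lie type in characteristic `p`: `L` is transitive on the nonzero vectors.
-/

set_option autoImplicit false
set_option linter.unusedSectionVars false
set_option linter.style.haveILetI false

namespace Cfsg.Agent.H306.HT

open Cfsg Module
open Cfsg.Agent.H50.Her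
open Cfsg.Agent.ChevalleyStructure.CoxeterGeom Cfsg.Agent.Nodes.Reps
open Cfsg.Agent.Tits.Core Cfsg.Agent.Tits.Core.Bldg Cfsg.Agent.Tits.Exchange Cfsg.Agent.Tits
open Cfsg.Agent.FixBN Cfsg.Agent.FixBN.Cox Cfsg.Agent.LieRecognition.BNCox Cfsg.Agent.Nodes.RGDChev
open Cfsg.Agent.Omega.CR Cfsg.Agent.Omega.CR.Bl Cfsg.Agent.H905.DC

universe u v

variable {p : ℕ} [hp : Fact p.Prime] {V : Type u} [AddCommGroup V] [Module (ZMod p) V] [Finite V] [Nontrivial V]

/-- The setting of the own characteristic. -/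
structure DV (L : Subgroup (V ≃ₗ[ZMod p] V)) : Prop where
  irr : ∀ W : Submodule (ZMod p) V, (∀ g ∈ L, ∀ x ∈ W, g x ∈ W) → W = ⊥ ∨ W = ⊤
  simple : IsSimpleGroup (L ⧸ Subgroup.center L)
  cop : (Nat.card (Subgroup.center L)).Coprime p
  cov : ∀ v : V, ∃ Q : Subgroup L, IsPGroup p Q ∧
    (∀ Q' : Subgroup L, IsPGroup p Q' → Nat.card Q' ≤ Nat.card Q) ∧ ∀ g ∈ Q, g.1 v = v

variable {L : Subgroup (V ≃ₗ[ZMod p] V)}

theorem DV.irr' (h : DV L) : ∀ W : Submodule (ZMod p) V, Ivt (rep L) ⊤ W → W = ⊥ ∨ W = ⊤ := by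
  intro W hW
  refine h.irr W fun g hg x hx => ?_
  exact hW ⟨g, hg⟩ trivial x hx

section bldg

variable {I : Type*} {M : CoxeterMatrix I} {W : Type*} [Group W] {cs : CoxeterSystem M W} [F : OppRes.Cox cs]
  {C : Type*} {Δ : Bldg cs C} [MulAction L C] {S : Sys Δ L p} [Fintype C]

theorem DV.hcov (h : DV L) (v : V) : ∃ x, v ∈ Vx S (rep L) x := by
  obtain ⟨Q, hQ, hmax, hfix⟩ := h.cov v
  obtain ⟨x, hx⟩ := S.exists_fix Q hQ
  refine ⟨x, ?_⟩
  have h1 : Q ≤ S.U x := S.max x Q hQ hx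
  have h2 : Q = S.U x := Subgroup.eq_of_le_of_card_ge h1 (hmax _ (S.isP x))
  rw [mem_Vx]
  intro u hu
  rw [← h2] at hu
  exact hfix u hu

theorem DV.tra_sys (h : DV L) [Nonempty I] (hth : Δ.Thick) (S : Sys Δ L p) {v w : V} (hv : v ≠ 0) (hw : w ≠ 0) :
    ∃ g ∈ L, g v = w := by
  obtain ⟨x₀, -⟩ := h.hcov (S := S) 0
  obtain ⟨a, lab, hL⟩ := exists_lab (S := S) hth h.irr' h.hcov x₀
  have hJ := Jset_ne_univ (S := S) hth h.irr' rep_injective x₀
  obtain ⟨i, hi⟩ : ∃ i, i ∉ Jset S (rep L) := by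
    by_contra hcon
    push Not at hcon
    exact hJ (Set.eq_univ_of_forall hcon)
  have hi1 := isMinR_simple (cs := cs) hi
  have hi2 : cs.simple i ∉ WJ cs (Jset S (rep L)) := by
    intro hmem
    exact hi (mem_of_simple_mem hmem)
  obtain ⟨g, hg⟩ := tra_abs (S := S) hth h.irr' h.hcov hL ⟨i, hi2, hi1⟩ hv hw
  exact ⟨g.1, g.2, hg⟩

end bldg

theorem DV.tra_sysT (h : DV L) {I : Type*} [Finite I] [Nonempty I] {M : CoxeterMatrix I} (hS : HasSysT p M L) {v w : V}
    (hv : v ≠ 0) (hw : w ≠ 0) : ∃ g ∈ L, g v = w := by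
  obtain ⟨W, C, i1, cs, i2, i3, Δ, i4, hth, ⟨S⟩⟩ := hS
  exact h.tra_sys hth S hv hw

theorem DV.sysT (h : DV L) {l : ℕ} (hl : 0 < l) {M : CoxeterMatrix (Fin l)} {S' : Type v} [Group S']
    (hP : Cfsg.Agent.Omega.ML.Ex.Typ.HasRGDT p M S') (e : L ⧸ Subgroup.center L ≃* S') : HasSysT p M L := by
  have := h.simple
  exact Cfsg.Agent.H797.HerSys.hasSysT_of_rgdT hp.out hl (hP.of_equiv e.symm) (QuotientGroup.mk' (Subgroup.center L))
    (QuotientGroup.ker_mk' _) (by rw [QuotientGroup.ker_mk']; exact h.cop) (QuotientGroup.mk'_surjective _)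

theorem DV.tra_rgd (h : DV L) {l : ℕ} (hl : 0 < l) {M : CoxeterMatrix (Fin l)} {S' : Type v} [Group S']
    (hP : Cfsg.Agent.Omega.ML.Ex.Typ.HasRGDT p M S') (e : L ⧸ Subgroup.center L ≃* S') {v w : V}
    (hv : v ≠ 0) (hw : w ≠ 0) : ∃ g ∈ L, g v = w := by
  have : Nonempty (Fin l) := ⟨⟨0, hl⟩⟩
  exact h.tra_sysT (h.sysT hl hP e) hv hw

/-- **Own characteristic**: `L` is transitive on the nonzero vectors. -/
theorem DV.tra (h : DV L) (hS : IsLieTypeChar p (L ⧸ Subgroup.center L)) {v w : V} (hv : v ≠ 0) (hw : w ≠ 0) :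
    ∃ g ∈ L, g v = w := by
  rcases hS with hS | hS | hS | hS | hS | hS | hS | hS | hS | hS | hS
  · obtain ⟨K, _, _, _, n, hn, hn2, ⟨e⟩⟩ := hS
    obtain ⟨m, rfl⟩ : ∃ m, n = m + 1 := ⟨n - 1, by omega⟩
    exact h.tra_rgd (by omega) (Cfsg.Agent.H804.PanPSL.pan_psl (F := K) m (p := p)).hasRGDT e hv hw
  · obtain ⟨K, _, _, _, m, hm, hm2, ⟨e⟩⟩ := hS
    exact h.tra_rgd (by omega) (Cfsg.Agent.H742.pan_psp (F := K) (m := m) (by omega)).hasRGDT e hv hw
  · obtain ⟨K, _, _, _, n, q, hK, hn, -, ⟨e⟩⟩ := hS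
    obtain ⟨m, hm⟩ : ∃ m, n = 2 * m ∨ n = 2 * m + 1 := ⟨n / 2, by omega⟩
    rcases hm with rfl | rfl
    · exact h.tra_rgd (by omega) (Cfsg.Agent.H742.pan_psu_even hK (by omega)).hasRGDT e hv hw
    · exact h.tra_rgd (by omega) (Cfsg.Agent.H742.pan_psu_odd (m := m) (p := p) hK (by omega)).hasRGDT e hv hw
  · obtain ⟨K, _, _, _, m, hm, ho, ⟨e⟩⟩ := hS
    have hp2 : p ≠ 2 := by
      rintro rfl
      obtain ⟨k, hk, hc⟩ := FiniteField.card K 2
      rw [hc] at ho
      exact (Nat.not_even_iff_odd.2 ho) ((Nat.even_pow.2 ⟨even_two, k.2.ne'⟩))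
    exact h.tra_rgd (by omega) (Cfsg.Agent.H353.PanO.pan_po_odd hm hp2).hasRGDT e hv hw
  · obtain ⟨K, _, _, _, m, hm, ⟨e⟩⟩ := hS
    obtain ⟨n, rfl⟩ : ∃ n, m = n + 3 := ⟨m - 3, by omega⟩
    exact h.tra_rgd (by omega) (Cfsg.Agent.Omega.ML.Ex.Typ.typ_PO_plus n) e hv hw
  · obtain ⟨K, _, _, _, m, a, b, hm, hab, ⟨e⟩⟩ := hS
    exact h.tra_rgd (by omega) (Cfsg.Agent.H353.PanO.pan_po_minus hab (by omega)).hasRGDT e hv hw
  · obtain ⟨K, _, _, _, hS⟩ := hS
    rcases hS with ⟨hK, ⟨e⟩⟩ | ⟨⟨e⟩⟩ | ⟨⟨e⟩⟩ | ⟨⟨e⟩⟩ | ⟨⟨e⟩⟩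
    · exact h.tra_rgd (by omega) (Cfsg.Agent.H793.pan_g2 K p).hasRGDT e hv hw
    · exact h.tra_rgd (l := 4) (M := CoxeterMatrix.F₄) (by norm_num)
        (Cfsg.Agent.Omega.ML.Ex.Typ.typ_group (by simp [IsType, typeList]) K p) e hv hw
    · exact h.tra_rgd (l := 6) (M := CoxeterMatrix.E₆) (by norm_num)
        (Cfsg.Agent.Omega.ML.Ex.Typ.typ_group (by simp [IsType, typeList]) K p) e hv hw
    · exact h.tra_rgd (l := 7) (M := CoxeterMatrix.E₇) (by norm_num)
        (Cfsg.Agent.Omega.ML.Ex.Typ.typ_group (by simp [IsType, typeList]) K p) e hv hw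
    · exact h.tra_rgd (l := 8) (M := CoxeterMatrix.E₈) (by norm_num)
        (Cfsg.Agent.Omega.ML.Ex.Typ.typ_group (by simp [IsType, typeList]) K p) e hv hw
  · obtain ⟨K, _, _, _, q, hq, ⟨hK, ⟨e⟩⟩ | ⟨hK, ⟨e⟩⟩⟩ := hS
    · exact h.tra_rgd (by omega) (Cfsg.Agent.Omega.ML.Ex.Typ.typ_twE6 hq hK p) e hv hw
    · exact h.tra_rgd (by omega) (Cfsg.Agent.H793.pan_twD4 hq hK p).hasRGDT e hv hw
  · obtain ⟨hp2, hS⟩ := hS
    subst hp2
    obtain ⟨h1, -⟩ := Cfsg.Agent.H892.HerSz.sys_sz hS (QuotientGroup.mk' (Subgroup.center L))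
      (QuotientGroup.ker_mk' _) (by rw [QuotientGroup.ker_mk']; exact h.cop) (QuotientGroup.mk'_surjective _)
    exact h.tra_sysT h1 hv hw
  · obtain ⟨hp2, hS⟩ := hS
    subst hp2
    obtain ⟨M, hM, h1, -⟩ := Cfsg.Agent.H60.HerTwF4.sys_twF4 hS (QuotientGroup.mk' (Subgroup.center L))
      (QuotientGroup.ker_mk' _) (by rw [QuotientGroup.ker_mk']; exact h.cop) (QuotientGroup.mk'_surjective _)
    exact h.tra_sysT h1 hv hw
  · obtain ⟨hp3, hS⟩ := hS
    subst hp3
    obtain ⟨h1, -⟩ := Cfsg.Agent.H892.HerSz.sys_ree hS (QuotientGroup.mk' (Subgroup.center L))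
      (QuotientGroup.ker_mk' _) (by rw [QuotientGroup.ker_mk']; exact h.cop) (QuotientGroup.mk'_surjective _)
    exact h.tra_sysT h1 hv hw

end Cfsg.Agent.H306.HT
end

-- part: H306/HT/RowOwn
section
set_option linter.all false
open scoped Cfsg.Agent.FastGrp

/-!
# S3512, RowP: own characteristic (helper306)

`own` : `QSP p K V G L h`, `L / Z(L)` of Lie type in characteristic `p`: `L` (so `G`) is transitive on the nonzero vectors.
-/

set_option autoImplicit false
set_option linter.unusedSectionVars false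
set_option linter.style.haveILetI false

namespace Cfsg.Agent.H306.HT

open Cfsg.Agent.H828.HT Cfsg.Agent.H960.HT Cfsg.Agent.H19.HT

universe u w

section

variable {p : ℕ} [hp : Fact p.Prime] {V : Type u} [AddCommGroup V] [Module (ZMod p) V] [Finite V]
  {L : Subgroup (V ≃ₗ[ZMod p] V)}

theorem orb_mul_stab (v : V) :
    Nat.card (MulAction.orbit L v) * Nat.card (MulAction.stabilizer L v) = Nat.card L := by
  classical
  have : Finite (V ≃ₗ[ZMod p] V) := DFunLike.finite _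
  have := Fintype.ofFinite L
  have h2 := MulAction.card_orbit_mul_card_stabilizer_eq_card_group L v
  rwa [← Nat.card_eq_fintype_card, ← Nat.card_eq_fintype_card, ← Nat.card_eq_fintype_card] at h2

/-- `p`-exceptional groups: every vector is fixed by a Sylow `p`-subgroup -/
theorem cov_of_pex (hP : PEx L) (v : V) : ∃ Q : Subgroup L, IsPGroup p Q ∧
    (∀ Q' : Subgroup L, IsPGroup p Q' → Nat.card Q' ≤ Nat.card Q) ∧ ∀ g ∈ Q, g.1 v = v := by
  have hfin : Finite (V ≃ₗ[ZMod p] V) := DFunLike.finite _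
  by_cases hv : v = 0
  · obtain ⟨Q⟩ : Nonempty (Sylow p L) := inferInstance
    refine ⟨Q, Q.isPGroup', fun Q' hQ' => ?_, fun g _ => by rw [hv, map_zero]⟩
    obtain ⟨Q'', hQ''⟩ := hQ'.exists_le_sylow
    rw [Nat.card_congr (Sylow.equiv Q Q'').toEquiv]
    exact Subgroup.card_le_of_le hQ''
  obtain ⟨Q⟩ : Nonempty (Sylow p (MulAction.stabilizer L v)) := inferInstance
  have hcard := orb_mul_stab (L := L) v
  refine ⟨(Q : Subgroup (MulAction.stabilizer L v)).map (MulAction.stabilizer L v).subtype, Q.isPGroup'.map _,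
    fun Q' hQ' => ?_, ?_⟩
  · rw [Subgroup.card_map_of_injective (MulAction.stabilizer L v).subtype_injective, Sylow.card_eq_multiplicity]
    obtain ⟨k', hk'⟩ := IsPGroup.iff_card.1 hQ'
    have h4 : p ^ k' ∣ Nat.card L := hk' ▸ Subgroup.card_subgroup_dvd_card Q'
    rw [← hcard] at h4
    have h5 : p ^ k' ∣ Nat.card (MulAction.stabilizer L v) :=
      (Nat.Coprime.pow_left k' ((Nat.Prime.coprime_iff_not_dvd hp.out).2 (hP v hv))).dvd_of_dvd_mul_left h4
    rw [hk']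
    exact Nat.pow_le_pow_right hp.out.pos ((hp.out.pow_dvd_iff_le_factorization Nat.card_pos.ne').1 h5)
  · rintro _ ⟨g, -, rfl⟩
    exact g.2

/-- a central `p`-element of an irreducible group is trivial -/
theorem center_coprime [Nontrivial V] (hirr : Irr L) : (Nat.card (Subgroup.center L)).Coprime p := by
  have hfin : Finite (V ≃ₗ[ZMod p] V) := DFunLike.finite _
  rw [Nat.coprime_comm, Nat.Prime.coprime_iff_not_dvd hp.out]
  intro hd
  obtain ⟨z, hz⟩ := exists_prime_orderOf_dvd_card' p hd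
  have hc : ∀ g : L, g * z.1 = z.1 * g := Subgroup.mem_center_iff.1 z.2
  have hzp : z.1.1 ^ p = 1 := by
    have h1 : z ^ p = 1 := orderOf_dvd_iff_pow_eq_one.1 hz.dvd
    have h2 := congrArg (fun x : Subgroup.center L => (x.1.1 : V ≃ₗ[ZMod p] V)) h1
    simpa using h2
  -- `z` has a nonzero fixed vector
  obtain ⟨v, hv0, hv⟩ : ∃ v : V, v ≠ 0 ∧ z.1.1 v = v := by
    by_contra hcon
    push Not at hcon
    have hinj : Function.Injective ((z.1.1 : V ≃ₗ[ZMod p] V) - (LinearMap.id : V →ₗ[ZMod p] V) : V →ₗ[ZMod p] V) := by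
      rw [injective_iff_map_eq_zero]
      intro v hv
      by_contra h0
      exact hcon v h0 (sub_eq_zero.1 hv)
    have hchar : CharP (Module.End (ZMod p) V) p := by
      have := charP_of_injective_algebraMap (algebraMap (ZMod p) (Module.End (ZMod p) V)).injective p
      exact this
    have h3 : ((z.1.1 : V →ₗ[ZMod p] V) - (1 : Module.End (ZMod p) V)) ^ p = 0 := by
      have hcm : Commute (z.1.1 : Module.End (ZMod p) V) 1 := Commute.one_right _
      rw [sub_pow_char_of_commute p hcm, one_pow, sub_eq_zero]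
      refine LinearMap.ext fun v => ?_
      have h4 : ∀ n : ℕ, ((z.1.1 : Module.End (ZMod p) V) ^ n) v = (z.1.1 ^ n) v := by
        intro n
        induction n with
        | zero => rfl
        | succ n ih =>
          rw [pow_succ', pow_succ', Module.End.mul_apply, ih]
          rfl
      rw [h4, hzp]
      rfl
    obtain ⟨v, hv⟩ := exists_ne (0 : V)
    have h5 : Function.Injective (((z.1.1 : V →ₗ[ZMod p] V) - (1 : Module.End (ZMod p) V)) ^ p : Module.End (ZMod p) V) := by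
      rw [Module.End.coe_pow]
      exact hinj.iterate p
    rw [h3] at h5
    exact hv (h5 (by simp))
  rcases hirr (fx z.1.1) (by
    intro g hg w hw
    rw [mem_fx] at hw ⊢
    have h1 : ((z.1 * ⟨g, hg⟩ : L) : V ≃ₗ[ZMod p] V) w = ((⟨g, hg⟩ * z.1 : L) : V ≃ₗ[ZMod p] V) w := by
      rw [hc ⟨g, hg⟩]
    change z.1.1 (g w) = g (z.1.1 w) at h1
    rw [h1, hw]) with h | h
  · have h1 : v ∈ fx z.1.1 := mem_fx.2 hv
    rw [h] at h1
    exact hv0 ((Submodule.mem_bot _).1 h1)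
  · have h1 : z = 1 := by
      apply Subtype.ext
      apply Subtype.ext
      ext w
      have : w ∈ fx z.1.1 := by rw [h]; trivial
      exact mem_fx.1 this
    rw [h1, orderOf_one] at hz
    exact hp.out.one_lt.ne hz

end

/-- **RowP, own characteristic** -/
theorem own {p : ℕ} [hp : Fact p.Prime] {K : Type w} [Field K] {V : Type u} [AddCommGroup V] [Module (ZMod p) V]
    [Finite V] [Module K V] {G L : Subgroup (V ≃ₗ[ZMod p] V)} {h : ℕ} (H : QSP p K V G L h)
    (hS : Cfsg.IsLieTypeChar p (L ⧸ Subgroup.center L)) : Tra G := by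
  have hne : ∃ v : V, v ≠ 0 := by
    obtain ⟨a, -, b, -, hab⟩ := H.nonab
    by_contra hcon
    push Not at hcon
    exact hab (LinearEquiv.ext fun v => by rw [hcon ((a * b) v), hcon ((b * a) v)])
  obtain ⟨v₀, hv₀⟩ := hne
  haveI : Nontrivial V := ⟨⟨v₀, 0, hv₀⟩⟩
  have hirr : Irr L := H.irr
  have hP : PEx L := pex_of_normal H.half H.le H.nrm
  have hD : DV L := ⟨fun W hW => hirr W hW, H.simple, center_coprime hirr, cov_of_pex hP⟩
  intro v w hv hw
  obtain ⟨g, hg, e⟩ := hD.tra hS hv hw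
  exact ⟨g, H.le hg, e⟩

end Cfsg.Agent.H306.HT
end
end
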